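/-
S2858 claim (N), package NEA (helper45's plan): the induction step.  `subQuot` of helper59 in
`LAmal` form: for two `S3`-type subgroups `L₁, L₂` with common Sylow 2-subgroup `S`, swapped by
some `t` normalizing `S`, and `K` the largest subgroup of `S` normalized by both, `D_i / K` is
elementary abelian (given S2858 for smaller `|T|`).
-/
import Mathlib
import Cfsg.Agent.Lib.Helper45.S3Amal.NDefs
import Cfsg.Agent.Lib.Helper47.Subn
import Cfsg.Agent.Lib.Helper83.KS12.S3Quot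
import Cfsg.Agent.Lib.Helper80.Sym.ZL

set_option autoImplicit false

namespace Cfsg.Agent.Lib.Helper96.S3Amal

open Cfsg.Agent.Lib.Helper71.Sym Cfsg.Agent.Lib.Helper45.S3Amal

universe u

section loc

variable {G : Type u} [Group G]

theorem relIndex_S_eq_three {L S D : Subgroup G} (a : LAmal L S D) : S.relIndex L = 3 := by
  have hfL := a.fin
  have hfS : Finite ↥S := Finite.of_injective _ (Subgroup.inclusion_injective a.hTH)
  have h := Cfsg.Agent.Lib.Helper80.Sym.card_mul_relIndex_of_le a.hTH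
  rw [a.hHT] at h
  have hpos : 0 < Nat.card ↥S := Nat.card_pos
  exact Nat.eq_of_mul_eq_mul_left hpos (by rw [h, mul_comm])

theorem exists_sylow_eq {L S D : Subgroup G} (a : LAmal L S D) :
    ∃ Syl : Sylow 2 ↥L, (Syl : Subgroup ↥L) = S.subgroupOf L := by
  have hF2 : Fact (Nat.Prime 2) := ⟨Nat.prime_two⟩
  have hp : IsPGroup 2 ↥(S.subgroupOf L) := a.hT2.comap_of_injective _ L.subtype_injective
  have hidx : ¬ 2 ∣ (S.subgroupOf L).index := by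
    have h3 : (S.subgroupOf L).index = 3 := relIndex_S_eq_three a
    rw [h3]
    norm_num
  exact ⟨hp.toSylow hidx, rfl⟩

theorem pCoreOf_le_S {L S D : Subgroup G} (a : LAmal L S D) : Cfsg.pCoreOf 2 L ≤ S := by
  obtain ⟨Syl, hSyl⟩ := exists_sylow_eq a
  rintro _ ⟨k, hk, rfl⟩
  have h : k ∈ (Syl : Subgroup ↥L) := Cfsg.Agent.Lib.Helper84.pCore_le_sylow 2 Syl hk
  rw [hSyl] at h
  exact Subgroup.mem_subgroupOf.mp h

theorem pCoreOf_eq {L S D : Subgroup G} (a : LAmal L S D) : Cfsg.pCoreOf 2 L = D := by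
  have hfL := a.fin
  have hF2 : Fact (Nat.Prime 2) := ⟨Nat.prime_two⟩
  have hfS : Finite ↥S := Finite.of_injective _ (Subgroup.inclusion_injective a.hTH)
  have hDO : D ≤ Cfsg.pCoreOf 2 L :=
    Cfsg.Agent.Lib.Helper47.le_pCoreOf_of_le_normalizer (a.hT2.to_le a.hQT) (a.hQT.trans a.hTH)
      (Cfsg.Agent.Lib.Helper59.Amal.le_normalizer_of_conj_mem a.hQn)
  have hOS := pCoreOf_le_S a
  have hfO : Finite ↥(Cfsg.pCoreOf 2 L) :=
    Finite.of_injective _ (Subgroup.inclusion_injective hOS)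
  have hfD : Finite ↥D := Finite.of_injective _ (Subgroup.inclusion_injective a.hQT)
  have hne : Cfsg.pCoreOf 2 L ≠ S := by
    intro h
    obtain ⟨h₀, hh₀, t, ht, hnot⟩ := a.hTn
    apply hnot
    have hN := Cfsg.Agent.Lib.Helper47.le_normalizer_pCoreOf 2 L hh₀
    rw [h] at hN
    exact (Subgroup.mem_normalizer_iff.mp hN t).mp ht
  have h1 : Nat.card ↥D ∣ Nat.card ↥(Cfsg.pCoreOf 2 L) := Subgroup.card_dvd_of_le hDO
  have h2 : Nat.card ↥(Cfsg.pCoreOf 2 L) ∣ Nat.card ↥S := Subgroup.card_dvd_of_le hOS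
  rw [a.hTQ] at h2
  obtain ⟨c, hc⟩ := h1
  have hDpos : 0 < Nat.card ↥D := Nat.card_pos
  rw [hc] at h2
  have hc2 : c ∣ 2 := by
    have h3 : Nat.card ↥D * c ∣ Nat.card ↥D * 2 := by rwa [mul_comm _ 2]
    exact (Nat.mul_dvd_mul_iff_left hDpos).mp h3
  rcases (Nat.dvd_prime Nat.prime_two).mp hc2 with rfl | rfl
  · symm
    exact Subgroup.eq_of_le_of_card_ge hDO (by rw [hc, mul_one])
  · exfalso
    apply hne
    exact Subgroup.eq_of_le_of_card_ge hOS (by rw [hc, a.hTQ, mul_comm])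

theorem quot_S3 {L S D : Subgroup G} (a : LAmal L S D) :
    Nonempty (↥L ⧸ Cfsg.pCore 2 ↥L ≃* Equiv.Perm (Fin 3)) := by
  have hfL := a.fin
  have hNn : (Cfsg.pCore 2 ↥L).Normal := Subgroup.sSup_normal _ (fun _ h => h.1)
  have hfD : Finite ↥D :=
    Finite.of_injective _ (Subgroup.inclusion_injective (a.hQT.trans a.hTH))
  apply Cfsg.Agent.Lib.Helper83.KS12.nonempty_mulEquiv_perm_three
  · have e : (Cfsg.pCore 2 ↥L).index = (Cfsg.pCoreOf 2 L).relIndex L := by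
      unfold Subgroup.relIndex Cfsg.pCoreOf
      congr 1
      exact (Subgroup.comap_map_eq_self_of_injective L.subtype_injective _).symm
    rw [e, pCoreOf_eq a]
    have h := Cfsg.Agent.Lib.Helper80.Sym.card_mul_relIndex_of_le (a.hQT.trans a.hTH)
    rw [a.hHT, a.hTQ] at h
    have hpos : 0 < Nat.card ↥D := Nat.card_pos
    exact Nat.eq_of_mul_eq_mul_left hpos (by rw [h]; ring)
  · intro hle
    obtain ⟨h₀, hh₀, t, ht, hnot⟩ := a.hTn
    apply hnot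
    have hc : (⟨h₀, hh₀⟩ : ↥L) * ⟨t, a.hTH ht⟩ * (⟨h₀, hh₀⟩ : ↥L)⁻¹ * (⟨t, a.hTH ht⟩ : ↥L)⁻¹ ∈
        Cfsg.pCore 2 ↥L := by
      have h4 := hle (Subgroup.commutator_mem_commutator
        (Subgroup.mem_top (⟨h₀, hh₀⟩ : ↥L)) (Subgroup.mem_top (⟨t, a.hTH ht⟩ : ↥L)))
      rwa [commutatorElement_def] at h4
    have hc' : h₀ * t * h₀⁻¹ * t⁻¹ ∈ Cfsg.pCoreOf 2 L :=
      ⟨_, hc, by simp⟩
    have hcS := pCoreOf_le_S a hc'
    have h3 := S.mul_mem hcS ht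
    simpa [mul_assoc] using h3

theorem S_eq_inf {L₁ L₂ S D₁ D₂ : Subgroup G} (a₁ : LAmal L₁ S D₁) (a₂ : LAmal L₂ S D₂)
    (z₁ : ZF L₁ S D₁) (hD : D₁ ≠ D₂) : S = L₁ ⊓ L₂ := by
  have hf₁ := a₁.fin
  have hf₂ := a₂.fin
  rcases z₁.maxT (L₁ ⊓ L₂) (le_inf a₁.hTH a₂.hTH) inf_le_left with h | h
  · exact h.symm
  · exfalso
    have hle : L₁ ≤ L₂ := by rw [← h]; exact inf_le_right
    have heq : L₁ = L₂ := Subgroup.eq_of_le_of_card_ge hle (by rw [a₁.hHT, a₂.hHT])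
    apply hD
    rw [← pCoreOf_eq a₁, ← pCoreOf_eq a₂, heq]

/-- A proper normal subgroup `K` of a finite 2-group `S`: an involution of `Z(S/K)`. -/
theorem exists_central_invol_mod {S K : Subgroup G} [Finite ↥S] (hS2 : IsPGroup 2 ↥S)
    (hKS : K ≤ S) (hKn : ∀ s ∈ S, ∀ k ∈ K, s * k * s⁻¹ ∈ K) (hne : K ≠ S) :
    ∃ z ∈ S, z ∉ K ∧ z * z ∈ K ∧ ∀ s ∈ S, z * s * z⁻¹ * s⁻¹ ∈ K := by
  have hF2 : Fact (Nat.Prime 2) := ⟨Nat.prime_two⟩
  have hN : (K.subgroupOf S).Normal := by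
    refine ⟨fun k hk s => ?_⟩
    rw [Subgroup.mem_subgroupOf] at hk ⊢
    simpa using hKn s s.2 k hk
  have hQ2 : IsPGroup 2 (↥S ⧸ K.subgroupOf S) := hS2.to_quotient _
  have hnt : Nontrivial (↥S ⧸ K.subgroupOf S) := by
    rw [QuotientGroup.nontrivial_iff]
    intro h
    apply hne
    apply le_antisymm hKS
    intro s hs
    have : (⟨s, hs⟩ : ↥S) ∈ K.subgroupOf S := by rw [h]; exact Subgroup.mem_top _
    exact Subgroup.mem_subgroupOf.mp this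
  have hcn := hQ2.center_nontrivial
  have hdvd : 2 ∣ Nat.card ↥(Subgroup.center (↥S ⧸ K.subgroupOf S)) := by
    rcases (hQ2.to_subgroup (Subgroup.center _)).card_eq_or_dvd with h1 | h1
    · exfalso
      have := Finite.one_lt_card (α := ↥(Subgroup.center (↥S ⧸ K.subgroupOf S)))
      omega
    · exact h1
  obtain ⟨x, hx⟩ := exists_prime_orderOf_dvd_card' 2 hdvd
  obtain ⟨z₀, hz₀⟩ := QuotientGroup.mk_surjective (x : ↥S ⧸ K.subgroupOf S)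
  have hx1 : (x : ↥S ⧸ K.subgroupOf S) ≠ 1 := by
    intro h
    have h1 : x = 1 := Subtype.ext h
    rw [h1, orderOf_one] at hx
    omega
  have hx2 : (x : ↥S ⧸ K.subgroupOf S) * x = 1 := by
    have h1 := pow_orderOf_eq_one x
    rw [hx, pow_two] at h1
    exact congrArg Subtype.val h1
  have hxc : ∀ y : ↥S ⧸ K.subgroupOf S, y * x = x * y :=
    fun y => Subgroup.mem_center_iff.mp x.2 y
  refine ⟨z₀, z₀.2, ?_, ?_, ?_⟩
  · intro hzK
    apply hx1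
    rw [← hz₀]
    exact (QuotientGroup.eq_one_iff z₀).mpr (Subgroup.mem_subgroupOf.mpr hzK)
  · have h1 : ((z₀ * z₀ : ↥S) : ↥S ⧸ K.subgroupOf S) = 1 := by
      rw [QuotientGroup.mk_mul, hz₀]
      exact hx2
    have h2 := (QuotientGroup.eq_one_iff _).mp h1
    exact Subgroup.mem_subgroupOf.mp h2
  · intro s hs
    have h1 : ((z₀ * ⟨s, hs⟩ * z₀⁻¹ * (⟨s, hs⟩ : ↥S)⁻¹ : ↥S) : ↥S ⧸ K.subgroupOf S) = 1 := by
      simp only [QuotientGroup.mk_mul, QuotientGroup.mk_inv, hz₀]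
      rw [← hxc]
      group
    have h2 := (QuotientGroup.eq_one_iff _).mp h1
    exact Subgroup.mem_subgroupOf.mp h2

theorem nz_sup_zpowers {L K : Subgroup G} {z : G} (hK : Nz L K)
    (h : ∀ g ∈ L, g * z * g⁻¹ * z⁻¹ ∈ K) : Nz L (K ⊔ Subgroup.zpowers z) := by
  intro g hg
  have hle : K ⊔ Subgroup.zpowers z ≤ cj g⁻¹ (K ⊔ Subgroup.zpowers z) := by
    apply sup_le
    · intro k hk
      rw [mem_cj]
      simp only [inv_inv]
      exact Subgroup.mem_sup_left (hK g hg k hk)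
    · rw [Subgroup.zpowers_le, mem_cj]
      simp only [inv_inv]
      have e : g * z * g⁻¹ = (g * z * g⁻¹ * z⁻¹) * z := by group
      rw [e]
      exact Subgroup.mul_mem _ (Subgroup.mem_sup_left (h g hg))
        (Subgroup.mem_sup_right (Subgroup.mem_zpowers z))
  intro k hk
  have h2 := hle hk
  rw [mem_cj] at h2
  simpa using h2

theorem exists_hZ {L₁ L₂ S K : Subgroup G} [Finite ↥S] (hS2 : IsPGroup 2 ↥S) (hSL₁ : S ≤ L₁)
    (hKS : K ≤ S) (hK₁ : Nz L₁ K) (hK₂ : Nz L₂ K)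
    (hKmax : ∀ N : Subgroup G, N ≤ S → Nz L₁ N → Nz L₂ N → N ≤ K) (hne : K ≠ S) :
    ∃ z ∈ S, z * z ∈ K ∧ (∀ s ∈ S, z * s * z⁻¹ * s⁻¹ ∈ K) ∧
      ((∃ g ∈ L₁, g * z * g⁻¹ * z⁻¹ ∉ K) ∨ (∃ g ∈ L₂, g * z * g⁻¹ * z⁻¹ ∉ K)) := by
  obtain ⟨z, hzS, hzK, hz2, hzc⟩ :=
    exists_central_invol_mod hS2 hKS (fun s hs => hK₁ s (hSL₁ hs)) hne
  refine ⟨z, hzS, hz2, hzc, ?_⟩
  by_contra hcon
  have h1 : ∀ g ∈ L₁, g * z * g⁻¹ * z⁻¹ ∈ K := by
    intro g hg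
    by_contra h
    exact hcon (Or.inl ⟨g, hg, h⟩)
  have h2 : ∀ g ∈ L₂, g * z * g⁻¹ * z⁻¹ ∈ K := by
    intro g hg
    by_contra h
    exact hcon (Or.inr ⟨g, hg, h⟩)
  apply hzK
  have hN : K ⊔ Subgroup.zpowers z ≤ K := by
    apply hKmax
    · exact sup_le hKS (by rw [Subgroup.zpowers_le]; exact hzS)
    · exact nz_sup_zpowers hK₁ h1
    · exact nz_sup_zpowers hK₂ h2
  exact hN (Subgroup.mem_sup_right (Subgroup.mem_zpowers z))

theorem cjK_le {L₁ L₂ S K : Subgroup G} (t : G) (htS : cj t S = S) (ht12 : cj t L₁ = L₂)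
    (ht21 : cj t L₂ = L₁) (hKS : K ≤ S) (hK₁ : Nz L₁ K) (hK₂ : Nz L₂ K)
    (hKmax : ∀ N : Subgroup G, N ≤ S → Nz L₁ N → Nz L₂ N → N ≤ K) : cj t K ≤ K := by
  apply hKmax
  · rw [← htS]
    exact cj_mono hKS t
  · intro h hh k hk
    rw [mem_cj] at hk ⊢
    have hh' : t⁻¹ * h * t ∈ L₂ := by
      rw [← ht21] at hh
      exact mem_cj.mp hh
    have h3 := hK₂ _ hh' _ hk
    convert h3 using 1
    group
  · intro h hh k hk
    rw [mem_cj] at hk ⊢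
    have hh' : t⁻¹ * h * t ∈ L₁ := by
      rw [← ht12] at hh
      exact mem_cj.mp hh
    have h3 := hK₁ _ hh' _ hk
    convert h3 using 1
    group

theorem hZ_transport {L₁ L₂ S K : Subgroup G} (t : G) (htS : cj t S = S) (ht12 : cj t L₁ = L₂)
    (hKt : cj t K ≤ K) (hKt' : cj t⁻¹ K ≤ K)
    {z : G} (hzS : z ∈ S) (hz2 : z * z ∈ K) (hzc : ∀ s ∈ S, z * s * z⁻¹ * s⁻¹ ∈ K)
    (hg : ∃ g ∈ L₁, g * z * g⁻¹ * z⁻¹ ∉ K) :
    ∃ z' ∈ S, z' * z' ∈ K ∧ (∀ s ∈ S, z' * s * z'⁻¹ * s⁻¹ ∈ K) ∧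
      ∃ g ∈ L₂, g * z' * g⁻¹ * z'⁻¹ ∉ K := by
  obtain ⟨g, hgL, hgK⟩ := hg
  refine ⟨t * z * t⁻¹, ?_, ?_, ?_, t * g * t⁻¹, ?_, ?_⟩
  · rw [← htS]
    exact conj_mem_cj hzS
  · apply hKt
    have e : t * z * t⁻¹ * (t * z * t⁻¹) = t * (z * z) * t⁻¹ := by group
    rw [e]
    exact conj_mem_cj hz2
  · intro s hs
    apply hKt
    have hs' : t⁻¹ * s * t ∈ S := by
      rw [← htS] at hs
      exact mem_cj.mp hs
    have e : t * z * t⁻¹ * s * (t * z * t⁻¹)⁻¹ * s⁻¹ =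
        t * (z * (t⁻¹ * s * t) * z⁻¹ * (t⁻¹ * s * t)⁻¹) * t⁻¹ := by group
    rw [e]
    exact conj_mem_cj (hzc _ hs')
  · rw [← ht12]
    exact conj_mem_cj hgL
  · intro hmem
    apply hgK
    have h1 : t⁻¹ * (t * g * t⁻¹ * (t * z * t⁻¹) * (t * g * t⁻¹)⁻¹ * (t * z * t⁻¹)⁻¹) * t⁻¹⁻¹ ∈
        cj t⁻¹ K := conj_mem_cj hmem
    have h2 := hKt' h1
    convert h2 using 1
    group

end loc

/-- **Package NEA.** -/
theorem pkgNEA : PkgNEA.{u} := by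
  intro n IH G _ L₁ L₂ S D₁ D₂ K a₁ a₂ z₁ z₂ hD hn hsw hKS hK₁ hK₂ hKmax hC₁ hC₂
  obtain ⟨t, htS, ht12, ht21⟩ := hsw
  have hf₁ := a₁.fin
  have hf₂ := a₂.fin
  have hfS : Finite ↥S := Finite.of_injective _ (Subgroup.inclusion_injective a₁.hTH)
  have hO₁ : Cfsg.pCoreOf 2 L₁ = D₁ := pCoreOf_eq a₁
  have hO₂ : Cfsg.pCoreOf 2 L₂ = D₂ := pCoreOf_eq a₂
  have hS : S = L₁ ⊓ L₂ := S_eq_inf a₁ a₂ z₁ hD
  have hneK : K ≠ S := by
    intro h
    obtain ⟨h₀, hh₀, s, hs, hnot⟩ := a₁.hTn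
    apply hnot
    have h3 := hK₁ h₀ hh₀ s (h ▸ hs)
    rwa [h] at h3
  have htS' : cj t⁻¹ S = S := by
    conv_lhs => rw [← htS, ← cj_mul, inv_mul_cancel, cj_one]
  have ht12' : cj t⁻¹ L₁ = L₂ := by
    conv_lhs => rw [← ht21, ← cj_mul, inv_mul_cancel, cj_one]
  have ht21' : cj t⁻¹ L₂ = L₁ := by
    conv_lhs => rw [← ht12, ← cj_mul, inv_mul_cancel, cj_one]
  have hKt : cj t K ≤ K := cjK_le t htS ht12 ht21 hKS hK₁ hK₂ hKmax
  have hKt' : cj t⁻¹ K ≤ K := cjK_le t⁻¹ htS' ht12' ht21' hKS hK₁ hK₂ hKmax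
  obtain ⟨z, hzS, hz2, hzc, hz⟩ := exists_hZ a₁.hT2 a₁.hTH hKS hK₁ hK₂ hKmax hneK
  have hZ₁ : ∃ z ∈ S, z * z ∈ K ∧ (∀ s ∈ S, z * s * z⁻¹ * s⁻¹ ∈ K) ∧
      ∃ g ∈ L₁, g * z * g⁻¹ * z⁻¹ ∉ K := by
    rcases hz with h | h
    · exact ⟨z, hzS, hz2, hzc, h⟩
    · exact hZ_transport t htS ht21 hKt hKt' hzS hz2 hzc h
  have hZ₂ : ∃ z ∈ S, z * z ∈ K ∧ (∀ s ∈ S, z * s * z⁻¹ * s⁻¹ ∈ K) ∧
      ∃ g ∈ L₂, g * z * g⁻¹ * z⁻¹ ∉ K := by
    rcases hz with h | h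
    · exact hZ_transport t htS ht12 hKt hKt' hzS hz2 hzc h
    · exact ⟨z, hzS, hz2, hzc, h⟩
  have key := Cfsg.Agent.Lib.Helper59.Amal.subQuot n IH L₁ L₂ S K hS hn
    (by
      intro P hP
      rcases hP with rfl | rfl
      · exact exists_sylow_eq a₁
      · exact exists_sylow_eq a₂)
    (by
      intro P hP
      rcases hP with rfl | rfl
      · exact quot_S3 a₁
      · exact quot_S3 a₂)
    hKS (Cfsg.Agent.Lib.Helper59.Amal.le_normalizer_of_conj_mem hK₁)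
    (Cfsg.Agent.Lib.Helper59.Amal.le_normalizer_of_conj_mem hK₂)
    (fun N hNS h1 h2 => hKmax N hNS
      (fun h hh k hk => (Subgroup.mem_normalizer_iff.mp (h1 hh) k).mp hk)
      (fun h hh k hk => (Subgroup.mem_normalizer_iff.mp (h2 hh) k).mp hk))
    (by
      intro P hP
      rcases hP with rfl | rfl
      · rw [hO₁]; exact hC₁
      · rw [hO₂]; exact hC₂)
    (by
      intro P hP
      rcases hP with rfl | rfl
      · exact hZ₁
      · exact hZ₂)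
  constructor
  · have h1 := key L₁ (by simp)
    rw [hO₁] at h1
    exact h1
  · have h2 := key L₂ (by simp)
    rw [hO₂] at h2
    exact h2

end Cfsg.Agent.Lib.Helper96.S3Amal
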