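/-
S2858 claim (N), package NA (helper45's plan): some elementary abelian subgroup of maximal order
of `Q₂` is not contained in `Q₁ ⊓ Q₂`.
-/
import Mathlib
import Cfsg.Agent.Lib.Helper45.S3Amal.NDefs

set_option autoImplicit false

namespace Cfsg.Agent.Lib.Helper96.S3Amal

open Cfsg.Agent.Lib.Helper71.Sym Cfsg.Agent.Lib.Helper45.S3Amal

universe u

theorem elemAb_iff {G : Type*} [Group G] (A : Subgroup G) :
    Cfsg.IsElementaryAbelian 2 A ↔ (∀ a ∈ A, ∀ b ∈ A, a * b = b * a) ∧ ∀ a ∈ A, a ^ 2 = 1 := by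
  unfold Cfsg.IsElementaryAbelian
  rw [isMulCommutative_iff]
  constructor
  · rintro ⟨h1, h2⟩
    exact ⟨fun a ha b hb => congrArg Subtype.val (h1 ⟨a, ha⟩ ⟨b, hb⟩), h2⟩
  · rintro ⟨h1, h2⟩
    exact ⟨fun a b => Subtype.ext (h1 a a.2 b b.2), h2⟩

theorem elemAb_cj {G : Type*} [Group G] (A : Subgroup G) (h : G)
    (hA : Cfsg.IsElementaryAbelian 2 A) : Cfsg.IsElementaryAbelian 2 (cj h A) := by
  rw [elemAb_iff] at hA ⊢
  obtain ⟨h1, h2⟩ := hA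
  constructor
  · intro a ha b hb
    rw [mem_cj] at ha hb
    have h3 := h1 _ ha _ hb
    have e1 : a * b = h * ((h⁻¹ * a * h) * (h⁻¹ * b * h)) * h⁻¹ := by group
    have e2 : b * a = h * ((h⁻¹ * b * h) * (h⁻¹ * a * h)) * h⁻¹ := by group
    rw [e1, e2, h3]
  · intro a ha
    rw [mem_cj] at ha
    have h3 := h2 _ ha
    have e : a ^ 2 = h * ((h⁻¹ * a * h) * (h⁻¹ * a * h)) * h⁻¹ := by rw [pow_two]; group
    rw [e, ← pow_two, h3]
    group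

theorem elemAb_bot {G : Type*} [Group G] : Cfsg.IsElementaryAbelian 2 (⊥ : Subgroup G) := by
  rw [elemAb_iff]
  constructor
  · intro a ha b hb
    rw [Subgroup.mem_bot] at ha hb
    rw [ha, hb]
  · intro a ha
    rw [Subgroup.mem_bot] at ha
    rw [ha, one_pow]

theorem elemAb_zpowers {G : Type*} [Group G] (z : G) (hz : z * z = 1) :
    Cfsg.IsElementaryAbelian 2 (Subgroup.zpowers z) := by
  rw [elemAb_iff]
  constructor
  · intro a ha b hb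
    obtain ⟨i, rfl⟩ := Subgroup.mem_zpowers_iff.mp ha
    obtain ⟨j, rfl⟩ := Subgroup.mem_zpowers_iff.mp hb
    exact (Commute.refl z).zpow_zpow i j
  · intro a ha
    obtain ⟨i, rfl⟩ := Subgroup.mem_zpowers_iff.mp ha
    rw [← zpow_natCast, ← zpow_mul, mul_comm, zpow_mul, zpow_natCast, pow_two, hz, one_zpow]

/-- **Package NA.** -/
theorem pkgNA : PkgNA.{u} := by
  intro G _ P₁ P₂ T Q₁ Q₂ a₁ a₂ hcore nD
  classical
  have hfP := a₂.fin
  have hfQ : Finite ↥Q₂ :=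
    Finite.of_injective _ (Subgroup.inclusion_injective (a₂.hQT.trans a₂.hTH))
  let Pr : ℕ → Prop := fun m =>
    ∃ B : Subgroup G, B ≤ Q₂ ∧ Cfsg.IsElementaryAbelian 2 B ∧ Nat.card ↥B = m
  have h1 : Pr 1 := ⟨⊥, bot_le, elemAb_bot, Subgroup.card_bot⟩
  have hspec := Nat.findGreatest_spec (P := Pr) (m := 1) (n := Nat.card ↥Q₂) Nat.card_pos h1
  obtain ⟨A₀, hA₀Q, hA₀E, hA₀c⟩ := hspec
  have hA₀max : ∀ B : Subgroup G, B ≤ Q₂ → Cfsg.IsElementaryAbelian 2 B →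
      Nat.card ↥B ≤ Nat.card ↥A₀ := by
    intro B hB hBE
    rw [hA₀c]
    exact Nat.le_findGreatest (Subgroup.card_le_of_le hB) ⟨B, hB, hBE, rfl⟩
  by_contra hcon
  have hall : ∀ A : Subgroup G, A ≤ Q₂ → Cfsg.IsElementaryAbelian 2 A →
      (∀ B : Subgroup G, B ≤ Q₂ → Cfsg.IsElementaryAbelian 2 B → Nat.card ↥B ≤ Nat.card ↥A) →
      A ≤ Q₁ ⊓ Q₂ := by
    intro A h1 h2 h3
    by_contra h4
    exact hcon ⟨A, h1, h2, h3, h4⟩
  obtain ⟨𝒜, h𝒜⟩ : ∃ 𝒜 : Set (Subgroup G), 𝒜 = {A | A ≤ Q₂ ∧ Cfsg.IsElementaryAbelian 2 A ∧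
      ∀ B : Subgroup G, B ≤ Q₂ → Cfsg.IsElementaryAbelian 2 B → Nat.card ↥B ≤ Nat.card ↥A} :=
    ⟨_, rfl⟩
  have hmem : ∀ A : Subgroup G, A ∈ 𝒜 ↔ (A ≤ Q₂ ∧ Cfsg.IsElementaryAbelian 2 A ∧
      ∀ B : Subgroup G, B ≤ Q₂ → Cfsg.IsElementaryAbelian 2 B → Nat.card ↥B ≤ Nat.card ↥A) := by
    intro A
    rw [h𝒜]
    rfl
  have hJD : sSup 𝒜 ≤ Q₁ ⊓ Q₂ := by
    apply sSup_le
    intro A hA
    rw [hmem] at hA
    exact hall A hA.1 hA.2.1 hA.2.2
  have hconj : ∀ h : G, ∀ A ∈ 𝒜, cj h A ≤ Q₂ → cj h A ∈ 𝒜 := by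
    intro h A hA hle
    rw [hmem] at hA ⊢
    refine ⟨hle, elemAb_cj A h hA.2.1, fun B hB hBE => ?_⟩
    rw [card_cj]
    exact hA.2.2 B hB hBE
  have hNz : ∀ P : Subgroup G, (∀ h ∈ P, ∀ A ∈ 𝒜, cj h A ≤ Q₂) → Nz P (sSup 𝒜) := by
    intro P hP h hh k hk
    have hle : sSup 𝒜 ≤ cj h⁻¹ (sSup 𝒜) := by
      apply sSup_le
      intro A hA
      rw [← cj_le_iff]
      exact le_sSup (hconj h A hA (hP h hh A hA))
    have h2 := hle hk
    rw [mem_cj] at h2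
    simpa using h2
  have hJ : sSup 𝒜 = ⊥ := by
    apply hcore
    · exact hJD.trans (inf_le_left.trans a₁.hQT)
    · apply hNz
      intro h hh A hA x hx
      rw [mem_cj] at hx
      rw [hmem] at hA
      have hxD := hall A hA.1 hA.2.1 hA.2.2 hx
      have h3 := nD h hh _ hxD
      have e : h * (h⁻¹ * x * h) * h⁻¹ = x := by group
      rw [e] at h3
      exact h3.2
    · apply hNz
      intro h hh A hA x hx
      rw [mem_cj] at hx
      rw [hmem] at hA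
      have h3 := a₂.hQn h hh _ (hA.1 hx)
      have e : h * (h⁻¹ * x * h) * h⁻¹ = x := by group
      rw [e] at h3
      exact h3
  have hA₀𝒜 : A₀ ∈ 𝒜 := (hmem A₀).mpr ⟨hA₀Q, hA₀E, hA₀max⟩
  have hA₀bot : A₀ = ⊥ := by
    have : A₀ ≤ sSup 𝒜 := le_sSup hA₀𝒜
    rw [hJ] at this
    exact le_bot_iff.mp this
  obtain ⟨z, hzT, hz2, hzc, h, hh, hhz⟩ := a₂.hZ
  have hzQ : z ∈ Q₂ := a₂.hCQ z (a₂.hTH hzT) (fun q hq => hzc q (a₂.hQT hq))
  have hle : Subgroup.zpowers z ≤ Q₂ := by rw [Subgroup.zpowers_le]; exact hzQ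
  have hcard := hA₀max _ hle (elemAb_zpowers z hz2)
  rw [hA₀bot, Subgroup.card_bot] at hcard
  have hfz : Finite ↥(Subgroup.zpowers z) :=
    Finite.of_injective _ (Subgroup.inclusion_injective hle)
  have hbot := Subgroup.eq_bot_of_card_le _ hcard
  have hz1 : z = 1 := by
    have : z ∈ Subgroup.zpowers z := Subgroup.mem_zpowers z
    rw [hbot, Subgroup.mem_bot] at this
    exact this
  apply hhz
  rw [hz1, mul_one, one_mul]

end Cfsg.Agent.Lib.Helper96.S3Amal
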